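import Mathlib

/-!
# Polynomials over valuation rings: primitive parts and the Gauss lemma (helper5)
-/

set_option autoImplicit false
open MvPolynomial

namespace Groth.Agent.H5.PicPoly

variable {V : Type*} [CommRing V] [IsDomain V] [ValuationRing V] {K : Type*} [Field K]
  [Algebra V K] [IsFractionRing V K] {σ : Type*}

variable (V) in
/-- In a finite family of elements of the fraction field of a valuation ring, not all zero, one
nonzero element divides all the others. -/
lemma exists_min {J : Type*} (s : Finset J) (x : J → K) (h : ∃ j ∈ s, x j ≠ 0) :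
    ∃ j₀ ∈ s, x j₀ ≠ 0 ∧ ∀ j ∈ s, ∃ r : V, x j = algebraMap V K r * x j₀ := by
  classical
  induction s using Finset.induction_on with
  | empty => obtain ⟨j, hj, -⟩ := h; simp at hj
  | insert a s ha ih =>
    by_cases hs : ∃ j ∈ s, x j ≠ 0
    · obtain ⟨j₁, hj₁, hx₁, hall⟩ := ih hs
      by_cases hxa : x a = 0
      · refine ⟨j₁, Finset.mem_insert_of_mem hj₁, hx₁, fun j hj => ?_⟩
        rcases Finset.mem_insert.mp hj with rfl | hj
        · exact ⟨0, by rw [hxa, map_zero, zero_mul]⟩
        · exact hall j hj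
      · rcases ValuationRing.isInteger_or_isInteger V (x a / x j₁) with ⟨r, hr⟩ | ⟨r, hr⟩
        · refine ⟨j₁, Finset.mem_insert_of_mem hj₁, hx₁, fun j hj => ?_⟩
          rcases Finset.mem_insert.mp hj with rfl | hj
          · exact ⟨r, by rw [hr, div_mul_cancel₀ _ hx₁]⟩
          · exact hall j hj
        · rw [inv_div] at hr
          refine ⟨a, Finset.mem_insert_self a s, hxa, fun j hj => ?_⟩
          rcases Finset.mem_insert.mp hj with rfl | hj
          · exact ⟨1, by rw [map_one, one_mul]⟩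
          · obtain ⟨r', hr'⟩ := hall j hj
            refine ⟨r' * r, ?_⟩
            rw [hr', map_mul, hr, mul_assoc, div_mul_cancel₀ _ hxa]
    · push Not at hs
      obtain ⟨j, hj, hxj⟩ := h
      rcases Finset.mem_insert.mp hj with rfl | hj
      · refine ⟨j, Finset.mem_insert_self j s, hxj, fun j' hj' => ?_⟩
        rcases Finset.mem_insert.mp hj' with rfl | hj'
        · exact ⟨1, by rw [map_one, one_mul]⟩
        · exact ⟨0, by rw [hs j' hj', map_zero, zero_mul]⟩
      · exact absurd (hs j hj) hxj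

/-- A nonzero vector of polynomials over the fraction field is a constant multiple of a primitive
vector of polynomials over the valuation ring. -/
lemma exists_primitive_vec {m : ℕ} (c : Fin m → MvPolynomial σ K) (hc : c ≠ 0) :
    ∃ (y : K) (v : Fin m → MvPolynomial σ V) (k : Fin m) (s : σ →₀ ℕ), y ≠ 0 ∧
      (∀ l, c l = C y * map (algebraMap V K) (v l)) ∧ coeff s (v k) = 1 := by
  classical
  let S : Finset (Fin m × (σ →₀ ℕ)) :=
    Finset.univ ×ˢ (Finset.univ.biUnion (fun l => (c l).support))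
  let x : Fin m × (σ →₀ ℕ) → K := fun j => coeff j.2 (c j.1)
  have hex : ∃ j ∈ S, x j ≠ 0 := by
    obtain ⟨l, hl⟩ : ∃ l, c l ≠ 0 := by
      by_contra h
      push Not at h
      exact hc (funext h)
    obtain ⟨t, ht⟩ := MvPolynomial.ne_zero_iff.mp hl
    refine ⟨(l, t), ?_, ht⟩
    refine Finset.mem_product.mpr ⟨Finset.mem_univ _, Finset.mem_biUnion.mpr ⟨l, Finset.mem_univ _, ?_⟩⟩
    exact MvPolynomial.mem_support_iff.mpr ht
  obtain ⟨⟨k, s⟩, -, hy, hall⟩ := exists_min V S x hex
  set y : K := coeff s (c k) with hydef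
  have hy' : y ≠ 0 := hy
  -- each `C y⁻¹ * c l` has coefficients in `V`
  have hrange : ∀ l, C y⁻¹ * c l ∈ Set.range (map (algebraMap V K) : MvPolynomial σ V → _) := by
    intro l
    rw [mem_range_map_iff_coeffs_subset]
    intro z hz
    obtain ⟨t, ht, rfl⟩ := MvPolynomial.mem_coeffs_iff.mp hz
    rw [coeff_C_mul]
    have htl : coeff t (c l) ≠ 0 := by
      intro h0
      rw [MvPolynomial.mem_support_iff, coeff_C_mul, h0, mul_zero] at ht
      exact ht rfl
    have hmem : ((l, t) : Fin m × (σ →₀ ℕ)) ∈ S :=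
      Finset.mem_product.mpr ⟨Finset.mem_univ _,
        Finset.mem_biUnion.mpr ⟨l, Finset.mem_univ _, MvPolynomial.mem_support_iff.mpr htl⟩⟩
    obtain ⟨r, hr⟩ := hall (l, t) hmem
    refine ⟨r, ?_⟩
    change algebraMap V K r = y⁻¹ * coeff t (c l)
    have hr' : coeff t (c l) = algebraMap V K r * y := hr
    rw [hr', mul_comm, mul_assoc, mul_inv_cancel₀ hy', mul_one]
  choose v hv using hrange
  refine ⟨y, v, k, s, hy', fun l => ?_, ?_⟩
  · rw [hv l, ← mul_assoc, ← C_mul, mul_inv_cancel₀ hy', C_1, one_mul]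
  · have h1 : algebraMap V K (coeff s (v k)) = 1 := by
      rw [← coeff_map, hv k, coeff_C_mul, ← hydef, inv_mul_cancel₀ hy']
    exact (IsFractionRing.injective V K) (by rw [h1, map_one])

/-- A nonzero polynomial over the fraction field is a constant multiple of a primitive polynomial
over the valuation ring. -/
lemma exists_primitive (p : MvPolynomial σ K) (hp : p ≠ 0) :
    ∃ (y : K) (q : MvPolynomial σ V) (s : σ →₀ ℕ), y ≠ 0 ∧
      p = C y * map (algebraMap V K) q ∧ coeff s q = 1 := by
  have hc : (fun _ : Fin 1 => p) ≠ 0 := fun h => hp (congrFun h 0)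
  obtain ⟨y, v, k, s, hy, hv, hs⟩ := exists_primitive_vec (V := V) (fun _ : Fin 1 => p) hc
  have hk : k = 0 := Subsingleton.elim _ _
  subst hk
  exact ⟨y, v 0, s, hy, hv 0, hs⟩

/-- **Gauss lemma**: a product of primitive polynomials over a valuation ring is primitive. -/
lemma exists_isUnit_coeff_mul (p q : MvPolynomial σ V) (hp : ∃ s, IsUnit (coeff s p))
    (hq : ∃ s, IsUnit (coeff s q)) : ∃ s, IsUnit (coeff s (p * q)) := by
  let ρ := IsLocalRing.residue V
  have h1 : ∀ r : MvPolynomial σ V, (∃ s, IsUnit (coeff s r)) ↔ map ρ r ≠ 0 := by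
    intro r
    rw [MvPolynomial.ne_zero_iff]
    refine exists_congr (fun s => ?_)
    rw [coeff_map, Ne, IsLocalRing.residue_eq_zero_iff, ← IsLocalRing.notMem_maximalIdeal]
  rw [h1] at hp hq ⊢
  rw [map_mul]
  exact mul_ne_zero hp hq

/-- If a multiple of a primitive polynomial by a polynomial over the fraction field has
coefficients in the valuation ring, then so has the multiplier. -/
lemma mem_range_of_mul_mem_range (u : MvPolynomial σ V) (hu : ∃ s, IsUnit (coeff s u))
    (a : MvPolynomial σ K)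
    (h : a * map (algebraMap V K) u ∈ Set.range (map (algebraMap V K) : MvPolynomial σ V → _)) :
    a ∈ Set.range (map (algebraMap V K) : MvPolynomial σ V → _) := by
  by_cases ha : a = 0
  · exact ⟨0, by rw [ha, map_zero]⟩
  obtain ⟨y, a₁, s, hy, ha₁, hs⟩ := exists_primitive (V := V) a ha
  obtain ⟨t, ht⟩ := exists_isUnit_coeff_mul a₁ u ⟨s, by rw [hs]; exact isUnit_one⟩ hu
  have h2 : a * map (algebraMap V K) u = C y * map (algebraMap V K) (a₁ * u) := by
    rw [ha₁, map_mul, mul_assoc]
  rw [h2, mem_range_map_iff_coeffs_subset] at h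
  have hne : coeff t (C y * map (algebraMap V K) (a₁ * u)) ≠ 0 := by
    rw [coeff_C_mul, coeff_map]
    refine mul_ne_zero hy ?_
    rw [Ne, map_eq_zero_iff _ (IsFractionRing.injective V K)]
    exact ht.ne_zero
  have hmem : coeff t (C y * map (algebraMap V K) (a₁ * u)) ∈
      ((C y * map (algebraMap V K) (a₁ * u)).coeffs : Set K) :=
    MvPolynomial.mem_coeffs_iff.mpr ⟨t, MvPolynomial.mem_support_iff.mpr hne, rfl⟩
  obtain ⟨r, hr⟩ := h hmem
  rw [coeff_C_mul, coeff_map] at hr
  obtain ⟨ε, hε⟩ := ht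
  have hy2 : y = algebraMap V K (r * (ε⁻¹ : Vˣ)) := by
    rw [map_mul, hr, ← hε, mul_assoc, ← map_mul, Units.mul_inv, map_one, mul_one]
  refine ⟨C (r * (ε⁻¹ : Vˣ)) * a₁, ?_⟩
  rw [map_mul, map_C, ← hy2, ← ha₁]

end Groth.Agent.H5.PicPoly
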