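import Mathlib
import Groth.Agent.Lib.Helper5.PicPoly.PicA

/-!
# Rank one idempotent matrices over polynomial rings over valuation rings (helper5)
-/

set_option autoImplicit false
open MvPolynomial

namespace Groth.Agent.H5.PicPoly

variable {V : Type*} [CommRing V] [IsDomain V] [ValuationRing V] {σ : Type*}

/-- The range of a nonzero idempotent matrix over `V[σ]` whose `2 × 2` minors vanish is generated
by one vector. -/
theorem core {m : ℕ} (E : Matrix (Fin m) (Fin m) (MvPolynomial σ V)) (hE : E * E = E)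
    (hmin : ∀ k l a b, E k a * E l b = E l a * E k b) (hne : E ≠ 0) :
    ∃ v : Fin m → MvPolynomial σ V, E.mulVec v = v ∧ v ≠ 0 ∧
      ∀ a, ∃ g : MvPolynomial σ V, ∀ k, E k a = g * v k := by
  classical
  let K := FractionRing V
  let E' := MvPolynomial σ K
  let φ : MvPolynomial σ V →+* E' := map (algebraMap V K)
  have hφ : Function.Injective φ := map_injective _ (IsFractionRing.injective V K)
  letI : StrongNormalizationMonoid E' := UniqueFactorizationMonoid.strongNormalizationMonoid
  letI : StrongNormalizedGCDMonoid E' := UniqueFactorizationMonoid.toStrongNormalizedGCDMonoid E'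
  -- a nonzero column
  obtain ⟨k₀, a₀, hk₀⟩ : ∃ k a, E k a ≠ 0 := by
    by_contra h
    push Not at h
    exact hne (Matrix.ext h)
  let c : Fin m → E' := fun k => φ (E k a₀)
  have hc : c ≠ 0 := fun h => hk₀ (hφ (by rw [map_zero]; exact congrFun h k₀))
  obtain ⟨c', hc', hgcd⟩ := Finset.extract_gcd c (Finset.univ_nonempty_iff.mpr ⟨k₀⟩)
  set γ : E' := Finset.univ.gcd c with hγ
  have hγ0 : γ ≠ 0 := by
    intro h0
    apply hc
    funext k
    exact Finset.gcd_eq_zero_iff.mp h0 k (Finset.mem_univ k)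
  have hc'0 : c' ≠ 0 := by
    intro h0
    apply hc
    funext k
    rw [hc' k (Finset.mem_univ k), h0, Pi.zero_apply, mul_zero]
  obtain ⟨y, v, k₁, s₁, hy, hv, hcoef⟩ := exists_primitive_vec (V := V) c' hc'0
  set μ : E' := γ * C y with hμ
  have hμ0 : μ ≠ 0 := mul_ne_zero hγ0 (by rw [Ne, C_eq_zero]; exact hy)
  have hcv : ∀ l, c l = μ * φ (v l) := by
    intro l
    rw [hc' l (Finset.mem_univ l), hv l, hμ, mul_assoc]
  -- `E v = v`
  have hEv : E.mulVec v = v := by
    funext k
    apply hφ
    apply mul_left_cancel₀ hμ0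
    have h1 : ∀ l, μ * φ (E k l * v l) = φ (E k l * E l a₀) := by
      intro l
      rw [map_mul, map_mul, mul_left_comm, ← hcv l]
    have h2 : ∑ l, E k l * E l a₀ = E k a₀ := by
      have := congrFun (congrFun hE k) a₀
      rwa [Matrix.mul_apply] at this
    change μ * φ (∑ l, E k l * v l) = μ * φ (v k)
    rw [map_sum, Finset.mul_sum, Finset.sum_congr rfl (fun l _ => h1 l), ← map_sum, h2, ← hcv k]
  have hvk₁ : v k₁ ≠ 0 := by
    intro h0
    rw [h0, coeff_zero] at hcoef
    exact zero_ne_one hcoef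
  have hv0 : v ≠ 0 := fun h0 => hvk₁ (congrFun h0 k₁)
  -- the entries of `v` are coprime over the fraction field
  have hunit : IsUnit (Finset.univ.gcd (fun l => φ (v l))) := by
    have h1 : Associated (Finset.univ.gcd c') (C y * Finset.univ.gcd (fun l => φ (v l))) := by
      have h2 : c' = fun l => C y * φ (v l) := funext hv
      rw [h2]
      exact Finset.gcd_mul_left' _ _ _
    rw [hgcd] at h1
    have h3 : IsUnit (C y * Finset.univ.gcd (fun l => φ (v l))) :=
      (associated_one_iff_isUnit.mp h1.symm)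
    exact isUnit_of_mul_isUnit_right h3
  refine ⟨v, hEv, hv0, fun a => ?_⟩
  -- vanishing of the minors against `v`
  have hminor : ∀ k l, E k a * v l = E l a * v k := by
    intro k l
    have h1 : v l = ∑ b, E l b * v b := (congrFun hEv l).symm
    have h2 : v k = ∑ b, E k b * v b := (congrFun hEv k).symm
    rw [h1, h2, Finset.mul_sum, Finset.mul_sum]
    refine Finset.sum_congr rfl (fun b _ => ?_)
    rw [← mul_assoc, ← mul_assoc, hmin k l a b]
  -- divisibility
  have hdvd : φ (v k₁) ∣ φ (E k₁ a) := by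
    have h1 : φ (v k₁) ∣ Finset.univ.gcd (fun l => φ (E k₁ a) * φ (v l)) := by
      refine Finset.dvd_gcd (fun l _ => ?_)
      refine ⟨φ (E l a), ?_⟩
      rw [← map_mul, ← map_mul, hminor k₁ l, mul_comm]
    have h2 : Associated (Finset.univ.gcd (fun l => φ (E k₁ a) * φ (v l)))
        (φ (E k₁ a) * Finset.univ.gcd (fun l => φ (v l))) := Finset.gcd_mul_left' _ _ _
    have h3 := h2.dvd_iff_dvd_right.mp h1
    obtain ⟨ε, hε⟩ := hunit
    rw [← hε] at h3
    exact (Units.dvd_mul_right).mp h3
  obtain ⟨a', ha'⟩ := hdvd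
  have hrange : a' ∈ Set.range (map (algebraMap V K) : MvPolynomial σ V → _) := by
    refine mem_range_of_mul_mem_range (v k₁) ⟨s₁, by rw [hcoef]; exact isUnit_one⟩ a' ?_
    exact ⟨E k₁ a, by rw [mul_comm]; exact ha'⟩
  obtain ⟨g, hg⟩ := hrange
  refine ⟨g, fun k => ?_⟩
  apply hφ
  have hφv : φ (v k₁) ≠ 0 := fun h0 => hvk₁ (hφ (by rw [h0, map_zero]))
  apply mul_left_cancel₀ hφv
  have hg' : φ g = a' := hg
  calc φ (v k₁) * φ (E k a) = φ (E k a * v k₁) := by rw [map_mul, mul_comm]
    _ = φ (E k₁ a * v k) := by rw [hminor k k₁]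
    _ = φ (v k₁) * a' * φ (v k) := by rw [map_mul, ha']
    _ = φ (v k₁) * φ (g * v k) := by rw [map_mul, hg', mul_assoc]

end Groth.Agent.H5.PicPoly
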