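import Mathlib
import Groth.Agent.Lib.Helper5.PicPoly.PicB

/-!
# Invertible modules over polynomial rings over products of valuation rings are free (helper5)
-/

set_option autoImplicit false
open MvPolynomial

namespace Groth.Agent.H5.PicPoly

section Deg

variable {V : Type*} [CommRing V] [IsDomain V] [ValuationRing V] {σ : Type*}

/-- `core` with degree bounds. -/
theorem core_deg {m : ℕ} (E : Matrix (Fin m) (Fin m) (MvPolynomial σ V)) (hE : E * E = E)
    (hmin : ∀ k l a b, E k a * E l b = E l a * E k b) (hne : E ≠ 0) (d : ℕ)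
    (hd : ∀ k a, (E k a).totalDegree ≤ d) :
    ∃ (v g : Fin m → MvPolynomial σ V), E.mulVec v = v ∧ (∀ a k, E k a = g a * v k) ∧
      (∀ k, (v k).totalDegree ≤ d) ∧ (∀ a, (g a).totalDegree ≤ d) := by
  obtain ⟨v, hEv, hv0, hg⟩ := core E hE hmin hne
  choose g hg using hg
  refine ⟨v, g, hEv, hg, fun k => ?_, fun a => ?_⟩
  · by_cases hvk : v k = 0
    · rw [hvk, totalDegree_zero]; exact Nat.zero_le _
    · obtain ⟨a, ha⟩ : ∃ a, E k a ≠ 0 := by
        by_contra h
        push Not at h
        apply hvk
        have h1 := congrFun hEv k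
        rw [← h1, Matrix.mulVec, dotProduct]
        refine Finset.sum_eq_zero (fun a _ => ?_)
        rw [h a, zero_mul]
      have hga : g a ≠ 0 := fun h0 => ha (by rw [hg a k, h0, zero_mul])
      have h1 := totalDegree_mul_of_isDomain hga hvk
      have h2 := hd k a
      rw [hg a k, h1] at h2
      omega
  · by_cases hga : g a = 0
    · rw [hga, totalDegree_zero]; exact Nat.zero_le _
    · obtain ⟨k, hk⟩ : ∃ k, v k ≠ 0 := by
        by_contra h
        push Not at h
        exact hv0 (funext h)
      have h1 := totalDegree_mul_of_isDomain hga hk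
      have h2 := hd k a
      rw [hg a k, h1] at h2
      omega

end Deg

section Assemble

variable {ι : Type*} (R : ι → Type*) [∀ i, CommRing (R i)] {σ : Type*}

/-- Reduction of a polynomial over the product to the `i`-th factor. -/
noncomputable abbrev red (i : ι) : MvPolynomial σ (∀ i, R i) →+* MvPolynomial σ (R i) :=
  map (Pi.evalRingHom R i)

lemma red_injective {p q : MvPolynomial σ (∀ i, R i)} (h : ∀ i, red R i p = red R i q) :
    p = q := by
  ext s i
  have h1 := congrArg (coeff s) (h i)
  rw [coeff_map, coeff_map] at h1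
  exact h1

lemma exists_assemble [Finite σ] (d : ℕ) (p : ∀ i, MvPolynomial σ (R i))
    (hp : ∀ i, (p i).totalDegree ≤ d) :
    ∃ P : MvPolynomial σ (∀ i, R i), ∀ i, red R i P = p i := by
  classical
  let T : Finset (σ →₀ ℕ) := (Finsupp.finite_of_degree_le d).toFinset
  refine ⟨∑ s ∈ T, monomial s (fun i => coeff s (p i)), fun i => ?_⟩
  rw [map_sum]
  have h1 : ∀ s ∈ T, red R i (monomial s (fun i => coeff s (p i))) =
      monomial s (coeff s (p i)) := by
    intro s _
    rw [map_monomial]
    rfl
  rw [Finset.sum_congr rfl h1]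
  have hsub : (p i).support ⊆ T := by
    intro s hs
    rw [Set.Finite.mem_toFinset]
    exact (le_totalDegree hs).trans (hp i)
  rw [← Finset.sum_subset hsub]
  · exact support_sum_monomial_coeff (p i)
  · intro s _ hs
    rw [notMem_support_iff.mp hs, monomial_zero]

lemma red_C_single_same [DecidableEq ι] (i : ι) :
    red R i (C (Pi.single i 1) : MvPolynomial σ (∀ i, R i)) = 1 := by
  change map (Pi.evalRingHom R i) (C (Pi.single i 1)) = 1
  rw [map_C]
  have h1 : Pi.evalRingHom R i (Pi.single i 1) = 1 := by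
    change (Pi.single i (1 : R i) : ∀ j, R j) i = 1
    rw [Pi.single_eq_same]
  rw [h1, C_1]

lemma red_C_single_of_ne [DecidableEq ι] {i j : ι} (hj : j ≠ i) :
    red R j (C (Pi.single i 1) : MvPolynomial σ (∀ i, R i)) = 0 := by
  change map (Pi.evalRingHom R j) (C (Pi.single i 1)) = 0
  rw [map_C]
  have h1 : Pi.evalRingHom R j (Pi.single i 1) = 0 := by
    change (Pi.single i (1 : R i) : ∀ j, R j) j = 0
    rw [Pi.single_eq_of_ne hj]
  rw [h1, C_0]

end Assemble

section General

variable (B : Type*) [CommRing B] (M : Type*) [AddCommGroup M] [Module B M]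

/-- A finite projective module is the image of an idempotent matrix. -/
lemma exists_idem [Module.Finite B M] [Module.Projective B M] :
    ∃ (m : ℕ) (f : (Fin m → B) →ₗ[B] M) (g : M →ₗ[B] (Fin m → B))
      (E : Matrix (Fin m) (Fin m) B), (∀ x, f (g x) = x) ∧ (∀ x, E.mulVec x = g (f x)) ∧
      E * E = E ∧ ∀ k a, E k a = g (f (Pi.single a 1)) k := by
  classical
  obtain ⟨m, f, g, -, -, hfg⟩ := Module.Finite.exists_comp_eq_id_of_projective B M
  have hfg' : ∀ x, f (g x) = x := fun x => LinearMap.congr_fun hfg x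
  let h : (Fin m → B) →ₗ[B] (Fin m → B) := g ∘ₗ f
  have hh : h ∘ₗ h = h := by
    apply LinearMap.ext
    intro x
    change g (f (g (f x))) = g (f x)
    rw [hfg']
  refine ⟨m, f, g, LinearMap.toMatrix' h, hfg', fun x => LinearMap.toMatrix'_mulVec h x, ?_,
    fun k a => rfl⟩
  rw [← LinearMap.toMatrix'_comp, hh]

variable {B M}

/-- The `τ`-trick: endomorphisms of an invertible module are scalars. -/
lemma exists_tau [Module.Invertible B M] {m : ℕ} (f : (Fin m → B) →ₗ[B] M)
    (g : M →ₗ[B] (Fin m → B)) (E : Matrix (Fin m) (Fin m) B)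
    (hEka : ∀ k a, E k a = g (f (Pi.single a 1)) k) (k b : Fin m) :
    ∃ τ : B, ∀ a l, E k a * E l b = τ * E l a := by
  let T : M →ₗ[B] M := ((LinearMap.proj k).comp g).smulRight (f (Pi.single b 1))
  obtain ⟨τ, hτ⟩ := (Module.Invertible.toModuleEnd_bijective B M).surjective T
  refine ⟨τ, fun a l => ?_⟩
  have h1 : τ • f (Pi.single a 1) = (g (f (Pi.single a 1)) k) • f (Pi.single b 1) :=
    LinearMap.congr_fun hτ (f (Pi.single a 1))
  have h2 := congrFun (congrArg g h1) l
  rw [map_smul, map_smul, Pi.smul_apply, Pi.smul_apply, smul_eq_mul, smul_eq_mul] at h2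
  rw [hEka, hEka, hEka]
  exact h2.symm

/-- If the matrix kills `ε`, then `ε` kills the module. -/
lemma smul_eq_zero_of_mul_eq_zero {m : ℕ} (f : (Fin m → B) →ₗ[B] M)
    (g : M →ₗ[B] (Fin m → B)) (E : Matrix (Fin m) (Fin m) B) (hfg' : ∀ x, f (g x) = x)
    (hEv : ∀ x, E.mulVec x = g (f x)) (ε : B) (hεE : ∀ k a, ε * E k a = 0) (x : M) :
    ε • x = 0 := by
  have h1 : ε • g x = 0 := by
    funext k
    have hgx : g x = E.mulVec (g x) := by rw [hEv, hfg']
    rw [Pi.smul_apply, Pi.zero_apply, hgx, Matrix.mulVec, dotProduct, smul_eq_mul,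
      Finset.mul_sum]
    refine Finset.sum_eq_zero (fun a _ => ?_)
    rw [← mul_assoc, hεE, zero_mul]
  rw [← hfg' x, ← map_smul, h1, map_zero]

/-- If the columns of the matrix are multiples of a fixed vector, the module is free. -/
lemma free_of_generator [Module.Invertible B M] {m : ℕ} (f : (Fin m → B) →ₗ[B] M)
    (g : M →ₗ[B] (Fin m → B)) (E : Matrix (Fin m) (Fin m) B) (hfg' : ∀ x, f (g x) = x)
    (hEv : ∀ x, E.mulVec x = g (f x)) (hEka : ∀ k a, E k a = g (f (Pi.single a 1)) k)
    (V W : Fin m → B) (hEV : E.mulVec V = V) (hEW : ∀ a k, E k a = W a * V k) :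
    Module.Free B M := by
  classical
  have hg : Function.Injective g := fun x y hxy => by rw [← hfg' x, ← hfg' y, hxy]
  have hgV : g (f V) = V := by rw [← hEv, hEV]
  have hgen : ∀ a, f (Pi.single a 1) = W a • f V := by
    intro a
    apply hg
    rw [map_smul, hgV]
    funext k
    rw [Pi.smul_apply, smul_eq_mul, ← hEW a k, hEka]
  have hsurj : Function.Surjective (LinearMap.toSpanSingleton B M (f V)) := by
    intro x
    refine ⟨∑ a, g x a * W a, ?_⟩
    rw [LinearMap.toSpanSingleton_apply, Finset.sum_smul]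
    have h1 : g x = ∑ a, g x a • (Pi.single a 1 : Fin m → B) := pi_eq_sum_univ' (g x)
    have h2 : x = ∑ a, g x a • f (Pi.single a 1) := by
      calc x = f (g x) := (hfg' x).symm
        _ = f (∑ a, g x a • (Pi.single a 1 : Fin m → B)) := by rw [← h1]
        _ = ∑ a, g x a • f (Pi.single a 1) := by
            rw [map_sum]
            exact Finset.sum_congr rfl (fun a _ => map_smul _ _ _)
    conv_rhs => rw [h2]
    refine Finset.sum_congr rfl (fun a _ => ?_)
    rw [hgen a, mul_smul]
  have hbij := Module.Invertible.bijective_of_surjective hsurj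
  exact Module.Free.of_equiv (LinearEquiv.ofBijective _ hbij)

end General

section Main

variable {ι : Type*} (R : ι → Type*) [∀ i, CommRing (R i)] [∀ i, IsDomain (R i)]
  [∀ i, ValuationRing (R i)] {σ : Type*} [Finite σ]

/-- Invertible modules over a polynomial ring over a product of valuation rings are free. -/
theorem free_of_invertible (M : Type*) [AddCommGroup M] [Module (MvPolynomial σ (∀ i, R i)) M]
    [Module.Invertible (MvPolynomial σ (∀ i, R i)) M] :
    Module.Free (MvPolynomial σ (∀ i, R i)) M := by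
  classical
  obtain ⟨m, f, g, E, hfg', hEv, hEE, hEka⟩ := exists_idem (MvPolynomial σ (∀ i, R i)) M
  have hτ := exists_tau f g E hEka
  choose τ hτ using hτ
  -- vanishing of the minors at each component
  have hminor : ∀ i k l a b, red R i (E k a) * red R i (E l b) =
      red R i (E l a) * red R i (E k b) := by
    intro i k l a b
    have h1 : ∀ a l, red R i (E k a) * red R i (E l b) =
        red R i (τ k b) * red R i (E l a) := by
      intro a l
      rw [← map_mul, hτ k b a l, map_mul]
    by_cases hcol : ∀ l, red R i (E l b) = 0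
    · rw [hcol l, hcol k, mul_zero, mul_zero]
    · push Not at hcol
      obtain ⟨l₀, hl₀⟩ := hcol
      have h2 : red R i (E k b) = red R i (τ k b) := mul_right_cancel₀ hl₀ (h1 b l₀)
      rw [h1 a l, ← h2, mul_comm]
  -- each component is nonzero
  have hne : ∀ i, E.map (red R i) ≠ 0 := by
    intro i h0
    have h0' : ∀ k a, red R i (E k a) = 0 := fun k a => by
      have h1 := congrFun (congrFun h0 k) a
      rwa [Matrix.map_apply] at h1
    have hεE : ∀ k a, (C (Pi.single i 1) : MvPolynomial σ (∀ i, R i)) * E k a = 0 := by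
      intro k a
      apply red_injective R
      intro j
      rw [map_mul, map_zero]
      by_cases hj : j = i
      · subst hj
        rw [h0' k a, mul_zero]
      · rw [red_C_single_of_ne R hj, zero_mul]
    have hεM : ∀ x : M, (C (Pi.single i 1) : MvPolynomial σ (∀ i, R i)) • x =
        (0 : MvPolynomial σ (∀ i, R i)) • x := by
      intro x
      rw [zero_smul]
      exact smul_eq_zero_of_mul_eq_zero f g E hfg' hEv _ hεE x
    have hε0 : (C (Pi.single i 1) : MvPolynomial σ (∀ i, R i)) = 0 :=
      eq_of_smul_eq_smul (α := M) hεM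
    have hεi := red_C_single_same R (σ := σ) i
    rw [hε0, map_zero] at hεi
    exact zero_ne_one hεi
  -- degree bound
  obtain ⟨d, hd⟩ : ∃ d : ℕ, ∀ k a, (E k a).totalDegree ≤ d :=
    ⟨Finset.univ.sup (fun ka : Fin m × Fin m => (E ka.1 ka.2).totalDegree), fun k a =>
      Finset.le_sup (f := fun ka : Fin m × Fin m => (E ka.1 ka.2).totalDegree)
        (Finset.mem_univ (k, a))⟩
  have hd' : ∀ i k a, ((E.map (red R i)) k a).totalDegree ≤ d := by
    intro i k a
    rw [Matrix.map_apply]
    have h1 : (red R i (E k a)).totalDegree ≤ (E k a).totalDegree :=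
      Finset.sup_mono (support_map_subset (Pi.evalRingHom R i) (E k a))
    exact h1.trans (hd k a)
  have hcore : ∀ i, ∃ (v w : Fin m → MvPolynomial σ (R i)),
      (E.map (red R i)).mulVec v = v ∧ (∀ a k, (E.map (red R i)) k a = w a * v k) ∧
      (∀ k, (v k).totalDegree ≤ d) ∧ (∀ a, (w a).totalDegree ≤ d) := fun i =>
    core_deg _ (by rw [← Matrix.map_mul, hEE])
      (fun k l a b => by simp only [Matrix.map_apply]; exact hminor i k l a b) (hne i) d (hd' i)
  choose v w hv1 hv2 hv3 hv4 using hcore
  -- assemble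
  have hV : ∀ k, ∃ P : MvPolynomial σ (∀ i, R i), ∀ i, red R i P = v i k := fun k =>
    exists_assemble R d (fun i => v i k) (fun i => hv3 i k)
  have hW : ∀ a, ∃ P : MvPolynomial σ (∀ i, R i), ∀ i, red R i P = w i a := fun a =>
    exists_assemble R d (fun i => w i a) (fun i => hv4 i a)
  choose V hV using hV
  choose W hW using hW
  have hEV : E.mulVec V = V := by
    funext k
    apply red_injective R
    intro i
    have h1 := congrFun (hv1 i) k
    rw [Matrix.mulVec, dotProduct] at h1 ⊢
    rw [map_sum, hV k i, ← h1]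
    refine Finset.sum_congr rfl (fun l _ => ?_)
    rw [map_mul, hV l i, Matrix.map_apply]
  have hEW : ∀ a k, E k a = W a * V k := by
    intro a k
    apply red_injective R
    intro i
    rw [map_mul, hW, hV, ← hv2 i a k, Matrix.map_apply]
  exact free_of_generator f g E hfg' hEv hEka V W hEV hEW

end Main

end Groth.Agent.H5.PicPoly
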